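import Cfsg.Agent.BlocksB.Cyclic.Modules

/-!
# A symmetric local algebra with small centre

In a group algebra, a corner `i A i` which is local and has centre of dimension at most two has
dimension at most two: it is commutative.
-/

set_option autoImplicit false
set_option linter.style.haveILetI false
set_option linter.unusedSectionVars false

namespace CfsgLib.TwoChars

open Module Submodule CfsgLib.BrauerPairs CfsgLib.Cyclic

universe u v

variable {k : Type v} [Field k] {G : Type u} [Group G] [Fintype G]

/-- The corner of an idempotent. -/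
noncomputable def cornerSub (i : MonoidAlgebra k G) : Submodule k (MonoidAlgebra k G) :=
  LinearMap.range ((LinearMap.mulLeft k i).comp (LinearMap.mulRight k i))

theorem mem_cornerSub {i y : MonoidAlgebra k G} (hii : i * i = i) :
    y ∈ cornerSub i ↔ i * y = y ∧ y * i = y := by
  rw [cornerSub, LinearMap.mem_range]
  constructor
  · rintro ⟨z, rfl⟩
    show i * (i * (z * i)) = i * (z * i) ∧ i * (z * i) * i = i * (z * i)
    exact ⟨by rw [← mul_assoc, hii], by rw [mul_assoc, mul_assoc, hii]⟩
  · rintro ⟨h1, h2⟩
    exact ⟨y, show i * (y * i) = y by rw [h2, h1]⟩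

/-- The elements of the corner commuting with the corner. -/
noncomputable def centralSub (i : MonoidAlgebra k G) : Submodule k (MonoidAlgebra k G) where
  carrier := {z | z ∈ cornerSub i ∧ ∀ r ∈ cornerSub i, z * r = r * z}
  zero_mem' := ⟨zero_mem _, fun r _ => by rw [zero_mul, mul_zero]⟩
  add_mem' := fun ha hb => ⟨add_mem ha.1 hb.1, fun r hr => by
    rw [add_mul, mul_add, ha.2 r hr, hb.2 r hr]⟩
  smul_mem' := fun c _ ha => ⟨Submodule.smul_mem _ c ha.1, fun r hr => by
    rw [smul_mul_assoc, mul_smul_comm, ha.2 r hr]⟩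

/-- The symmetrizing form. -/
noncomputable def form (a : MonoidAlgebra k G) : k := a.coeff 1

theorem form_mul_comm (a b : MonoidAlgebra k G) : form (a * b) = form (b * a) := by
  rw [form, form, CfsgLib.BrauerPairs.coeff_mul, CfsgLib.BrauerPairs.coeff_mul]
  refine Fintype.sum_equiv (Equiv.inv G) _ _ fun x => ?_
  show _ = b.coeff x⁻¹ * a.coeff (x⁻¹⁻¹ * 1)
  rw [inv_inv, mul_one, mul_one, mul_comm]

theorem eq_zero_of_form {a : MonoidAlgebra k G} (h : ∀ y, form (a * y) = 0) : a = 0 := by
  classical
  refine coeff_ext fun g => ?_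
  have h1 := h (MonoidAlgebra.single g⁻¹ 1)
  rw [form, MonoidAlgebra.coeff_mul_single_apply] at h1
  simpa using h1

/-- The pairing of the corner with itself. -/
noncomputable def pairing (i : MonoidAlgebra k G) : cornerSub i →ₗ[k] Dual k (cornerSub i) :=
  LinearMap.mk₂ k (fun r s => form ((r : MonoidAlgebra k G) * (s : MonoidAlgebra k G)))
    (fun a b s => by simp [form, add_mul]) (fun c a s => by simp [form, smul_mul_assoc])
    (fun r a b => by simp [form, mul_add]) (fun c r a => by simp [form, mul_smul_comm])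

theorem pairing_apply (i : MonoidAlgebra k G) (r s : cornerSub i) :
    pairing i r s = form ((r : MonoidAlgebra k G) * (s : MonoidAlgebra k G)) := rfl

theorem pairing_eq_zero {i : MonoidAlgebra k G} (hii : i * i = i) {r : MonoidAlgebra k G}
    (hr : r ∈ cornerSub i) (h : ∀ s ∈ cornerSub i, form (r * s) = 0) : r = 0 := by
  refine eq_zero_of_form fun y => ?_
  obtain ⟨h1, h2⟩ := (mem_cornerSub hii).1 hr
  have hy : i * y * i ∈ cornerSub i := (mem_cornerSub hii).2
    ⟨by rw [← mul_assoc, ← mul_assoc, hii], by rw [mul_assoc, hii]⟩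
  rw [← h _ hy, ← mul_assoc, ← mul_assoc, h2]
  conv_lhs => rw [← h1, mul_assoc, form_mul_comm]

theorem finrank_le_add_commutators {i : MonoidAlgebra k G} (hii : i * i = i)
    (C : Submodule k (MonoidAlgebra k G))
    (hC : ∀ a ∈ cornerSub i, ∀ b ∈ cornerSub i, a * b - b * a ∈ C) :
    finrank k (cornerSub i) ≤ finrank k (centralSub i) + finrank k C := by
  classical
  haveI : FiniteDimensional k (MonoidAlgebra k G) :=
    Module.Finite.of_basis (MonoidAlgebra.basis G k)
  set C' : Submodule k (cornerSub i) := C.comap (cornerSub i).subtype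
  have hinj : Function.Injective (pairing i) := by
    rw [injective_iff_map_eq_zero]
    intro r hr
    exact Subtype.ext (pairing_eq_zero hii r.2 fun s hs =>
      LinearMap.congr_fun hr ⟨s, hs⟩)
  have hsurj : Function.Surjective (pairing i) :=
    (LinearMap.injective_iff_surjective_of_finrank_eq_finrank (Subspace.dual_finrank_eq).symm).1
      hinj
  have hle : C'.dualAnnihilator ≤
      ((centralSub i).comap (cornerSub i).subtype).map (pairing i) := by
    intro φ hφ
    obtain ⟨r, rfl⟩ := hsurj φ
    refine ⟨r, ⟨r.2, fun a ha => ?_⟩, rfl⟩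
    obtain ⟨r1, r2⟩ := (mem_cornerSub hii).1 r.2
    obtain ⟨a1, a2⟩ := (mem_cornerSub hii).1 ha
    have hmem : (r : MonoidAlgebra k G) * a - a * (r : MonoidAlgebra k G) ∈ cornerSub i := (mem_cornerSub hii).2
      ⟨by rw [mul_sub, ← mul_assoc, ← mul_assoc, r1, a1],
        by rw [sub_mul, mul_assoc, mul_assoc, r2, a2]⟩
    refine sub_eq_zero.1 (pairing_eq_zero hii hmem fun b hb => ?_)
    obtain ⟨b1, b2⟩ := (mem_cornerSub hii).1 hb
    have hab : a * b - b * a ∈ cornerSub i := (mem_cornerSub hii).2
      ⟨by rw [mul_sub, ← mul_assoc, ← mul_assoc, a1, b1],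
        by rw [sub_mul, mul_assoc, mul_assoc, a2, b2]⟩
    have h0 := (Submodule.mem_dualAnnihilator _).1 hφ ⟨_, hab⟩ (hC a ha b hb)
    rw [pairing_apply] at h0
    show form (((r : MonoidAlgebra k G) * a - a * (r : MonoidAlgebra k G)) * b) = 0
    have e : form (((r : MonoidAlgebra k G) * a - a * (r : MonoidAlgebra k G)) * b) =
        form ((r : MonoidAlgebra k G) * a * b) - form (a * (r : MonoidAlgebra k G) * b) := by
      simp [form, sub_mul]
    have e' : form ((r : MonoidAlgebra k G) * (a * b - b * a)) =
        form ((r : MonoidAlgebra k G) * (a * b)) - form ((r : MonoidAlgebra k G) * (b * a)) := by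
      simp [form, mul_sub]
    rw [e, mul_assoc (r : MonoidAlgebra k G) a b, mul_assoc a (r : MonoidAlgebra k G) b,
      form_mul_comm a ((r : MonoidAlgebra k G) * b), mul_assoc (r : MonoidAlgebra k G) b a, ← e']
    exact h0
  have h1 := (Submodule.finrank_mono hle).trans (Submodule.finrank_map_le _ _)
  have h2 := Subspace.finrank_add_finrank_dualAnnihilator_eq C'
  have h3 : finrank k ((centralSub i).comap (cornerSub i).subtype) ≤ finrank k (centralSub i) := by
    rw [(Submodule.equivMapOfInjective _ (cornerSub i).injective_subtype _).finrank_eq]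
    exact Submodule.finrank_mono (Submodule.map_comap_le _ _)
  have h4 : finrank k C' ≤ finrank k C := by
    rw [(Submodule.equivMapOfInjective _ (cornerSub i).injective_subtype _).finrank_eq]
    exact Submodule.finrank_mono (Submodule.map_comap_le _ _)
  omega

/-- A local corner with centre of dimension at most two has dimension at most two. -/
theorem finrank_corner_le_two {i : MonoidAlgebra k G} (hii : i * i = i)
    (J : Submodule k (MonoidAlgebra k G)) (hJR : J ≤ cornerSub i)
    (hcod : ∀ r ∈ cornerSub i, ∃ c : k, r - c • i ∈ J) (hJmul : J * J ≤ J)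
    {N : ℕ} (hJnil : J ^ N = ⊥) (hZ : finrank k (centralSub i) ≤ 2) :
    finrank k (cornerSub i) ≤ 2 := by
  classical
  haveI : FiniteDimensional k (MonoidAlgebra k G) :=
    Module.Finite.of_basis (MonoidAlgebra.basis G k)
  have hcomm : ∀ a ∈ cornerSub i, ∀ b ∈ cornerSub i, ∃ a' ∈ J, ∃ b' ∈ J,
      a * b - b * a = a' * b' - b' * a' := by
    intro a ha b hb
    obtain ⟨c, hc⟩ := hcod a ha
    obtain ⟨d, hd⟩ := hcod b hb
    refine ⟨_, hc, _, hd, ?_⟩
    obtain ⟨a1, a2⟩ := (mem_cornerSub hii).1 ha
    obtain ⟨b1, b2⟩ := (mem_cornerSub hii).1 hb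
    simp only [mul_sub, sub_mul, smul_mul_assoc, mul_smul_comm, hii, a1, a2, b1, b2, smul_smul,
      mul_comm c d]
    module
  have hdim : finrank k (cornerSub i) ≤ finrank k (J * J : Submodule k (MonoidAlgebra k G)) + 2 := by
    refine (finrank_le_add_commutators hii (J * J) fun a ha b hb => ?_).trans (by omega)
    obtain ⟨a', ha', b', hb', e⟩ := hcomm a ha b hb
    exact e ▸ sub_mem (Submodule.mul_mem_mul ha' hb') (Submodule.mul_mem_mul hb' ha')
  by_cases hiJ : i ∈ J
  · -- then `i` is nilpotent, so zero
    have hpow : ∀ j : ℕ, i ∈ J ^ (j + 1) := fun j => by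
      induction j with
      | zero => rwa [zero_add, pow_one]
      | succ j ih =>
        rw [pow_succ]
        have := Submodule.mul_mem_mul ih hiJ
        rwa [hii] at this
    have hi0 : i = 0 := by
      have h := hpow N
      rw [pow_succ, hJnil, Submodule.bot_mul] at h
      exact h
    have : cornerSub i = ⊥ := by
      rw [eq_bot_iff]
      intro r hr
      rw [Submodule.mem_bot, ← ((mem_cornerSub hii).1 hr).1, hi0, zero_mul]
    rw [this, finrank_bot]
    omega
  have hJ1 : finrank k J + 1 ≤ finrank k (cornerSub i) := by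
    refine Submodule.finrank_lt_finrank_of_lt (lt_of_le_of_ne hJR fun e => hiJ ?_)
    rw [e]
    exact (mem_cornerSub hii).2 ⟨hii, hii⟩
  obtain ⟨x, hxJ, hx⟩ : ∃ x ∈ J, J ≤ Submodule.span k {x} ⊔ J * J := by
    by_cases hJJ : J ≤ J * J
    · exact ⟨0, zero_mem _, hJJ.trans le_sup_right⟩
    · obtain ⟨x, hxJ, hx⟩ := SetLike.not_le_iff_exists.1 hJJ
      refine ⟨x, hxJ, (Submodule.eq_of_le_of_finrank_le (sup_le ?_ hJmul) ?_).ge⟩
      · rwa [Submodule.span_singleton_le_iff_mem]
      · have h : finrank k (J * J : Submodule k (MonoidAlgebra k G)) <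
            finrank k (Submodule.span k {x} ⊔ J * J : Submodule k (MonoidAlgebra k G)) :=
          Submodule.finrank_lt_finrank_of_lt (lt_of_le_of_ne le_sup_right fun e =>
            hx (e ▸ Submodule.mem_sup_left (Submodule.mem_span_singleton_self x)))
        omega
  set S : Submodule k (MonoidAlgebra k G) :=
    Subalgebra.toSubmodule (Algebra.adjoin k ({x} : Set (MonoidAlgebra k G)))
  have hxS : ∀ j : ℕ, x ^ j ∈ S := fun j =>
    pow_mem (Algebra.self_mem_adjoin_singleton k x) j
  have hstep : ∀ j : ℕ, J ^ (j + 1) ≤ Submodule.span k {x ^ (j + 1)} ⊔ J ^ (j + 2) := by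
    intro j
    induction j with
    | zero =>
      rw [zero_add, pow_one, pow_one]
      refine hx.trans (sup_le le_sup_left ?_)
      rw [← pow_two]
      exact le_sup_right
    | succ j ih =>
      calc J ^ (j + 1 + 1) = J ^ (j + 1) * J := pow_succ _ _
        _ ≤ (Submodule.span k {x ^ (j + 1)} ⊔ J ^ (j + 2)) * J := mul_le_mul_left ih _
        _ = Submodule.span k {x ^ (j + 1)} * J ⊔ J ^ (j + 2) * J := Submodule.sup_mul _ _ _
        _ ≤ _ := by
          refine sup_le ?_ ((pow_succ J (j + 2)).ge.trans le_sup_right)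
          refine (mul_le_mul_right hx _).trans ?_
          rw [Submodule.mul_sup, Submodule.span_mul_span, Set.singleton_mul_singleton, ← pow_succ]
          refine sup_le le_sup_left (le_trans ?_ le_sup_right)
          rw [show J ^ (j + 1 + 2) = J ^ (j + 1) * (J * J) by rw [pow_add, pow_two]]
          refine mul_le_mul_left ?_ _
          rw [Submodule.span_singleton_le_iff_mem]
          exact Submodule.pow_mem_pow _ hxJ _
  have hJS : ∀ j : ℕ, J ≤ S ⊔ J ^ (j + 1) := by
    intro j
    induction j with
    | zero => rw [zero_add, pow_one]; exact le_sup_right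
    | succ j ih =>
      refine ih.trans (sup_le le_sup_left ((hstep j).trans (sup_le_sup_right ?_ _)))
      rw [Submodule.span_singleton_le_iff_mem]
      exact hxS _
  have hJle : J ≤ S := by
    have h := hJS N
    rwa [pow_succ, hJnil, Submodule.bot_mul, sup_bot_eq] at h
  refine (finrank_le_add_commutators hii ⊥ fun a ha b hb => ?_).trans (by rw [finrank_bot]; omega)
  obtain ⟨a', ha', b', hb', e⟩ := hcomm a ha b hb
  rw [Submodule.mem_bot, e, sub_eq_zero]
  have ha'' : a' ∈ Algebra.adjoin k ({x} : Set (MonoidAlgebra k G)) := hJle ha'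
  have hb'' : b' ∈ Algebra.adjoin k ({x} : Set (MonoidAlgebra k G)) := hJle hb'
  rw [Algebra.adjoin_singleton_eq_range_aeval] at ha'' hb''
  obtain ⟨P, rfl⟩ := ha''
  obtain ⟨Q, rfl⟩ := hb''
  exact (Commute.all P Q).map (Polynomial.aeval x)

/-- Products of elements killing the simple modules below `f` kill the modules below `f`. -/
theorem pow_kill {f : MonoidAlgebra k G} {J : Submodule k (MonoidAlgebra k G)}
    (hall : ∀ (U : Type (max u v)) [AddCommGroup U] [Module k U] [Module (MonoidAlgebra k G) U]
      [IsScalarTower k (MonoidAlgebra k G) U] [FiniteDimensional k U]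
      [IsSimpleModule (MonoidAlgebra k G) U], (∀ x : U, f • x = x) →
        ∀ a ∈ J, ∀ x : U, a • x = 0) :
    ∀ (d : ℕ) (X : Type (max u v)) [AddCommGroup X] [Module k X] [Module (MonoidAlgebra k G) X]
      [IsScalarTower k (MonoidAlgebra k G) X] [FiniteDimensional k X], finrank k X = d →
      (∀ x : X, f • x = x) → ∀ a ∈ J ^ d, ∀ x : X, a • x = 0 := by
  intro d
  induction d using Nat.strong_induction_on with
  | _ d ih =>
  intro X _ _ _ _ _ hd hf a ha x
  rcases subsingleton_or_nontrivial X with hX | hX
  · exact Subsingleton.elim _ _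
  obtain ⟨U, hU⟩ := exists_simple_submodule (k := k) (G := G) (S := X)
  haveI : FiniteDimensional k U := inferInstanceAs (FiniteDimensional k (U.restrictScalars k))
  have hpos : 0 < finrank k U := by
    haveI := IsSimpleModule.nontrivial (MonoidAlgebra k G) U
    exact Module.finrank_pos
  have hsum := CfsgLib.Cyclic.finrank_eq_add (k := k) U
  obtain ⟨c, hc⟩ := Nat.exists_eq_add_of_le (show finrank k (X ⧸ U) + 1 ≤ d by omega)
  rw [hc, pow_add, pow_succ'] at ha
  induction ha using Submodule.mul_induction_on' with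
  | mem_mul_mem w hw v _ =>
    rw [mul_smul]
    induction hw using Submodule.mul_induction_on' with
    | mem_mul_mem j hj q hq =>
      rw [mul_smul]
      have hq0 := ih _ (by omega) (X ⧸ U) rfl (fun z => by
        obtain ⟨y, rfl⟩ := U.mkQ_surjective z
        rw [← map_smul, hf]) q hq (U.mkQ (v • x))
      rw [← map_smul, Submodule.mkQ_apply, Submodule.Quotient.mk_eq_zero] at hq0
      exact congrArg Subtype.val (hall U (fun z => Subtype.ext (hf (z : X))) j hj ⟨_, hq0⟩)
    | add w _ w' _ h h' => rw [add_smul, h, h', add_zero]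
  | add w _ w' _ h h' => rw [add_smul, h, h', add_zero]

end CfsgLib.TwoChars
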