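import Cfsg.Agent.BlocksB.TwoCharacters.Corner
import Cfsg.Agent.BlocksB.Cyclic.Corner
import Cfsg.Agent.BlocksB.RegRank

/-!
# Blocks with two characters

A block with two irreducible characters has a defect group of order two: its basic algebra is a
symmetric local algebra with centre of dimension two, hence has dimension two.
-/

set_option autoImplicit false
set_option linter.style.haveILetI false
set_option linter.unusedSectionVars false

namespace CfsgLib.TwoChars

open Cfsg Finset CfsgLib.Block CfsgLib.Block.Chr CfsgLib.BrauerPairs CfsgLib.BlockStar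
  CfsgLib.BlockB CfsgLib.Cyclic Module
open scoped ComplexConjugate
open scoped Classical

universe u

variable {M : Ideal AlgInt} [M.IsPrime] {p : ℕ} [Fact p.Prime] [CharP (Residue M) p]
  {G : Type u} [Group G] [Fintype G]

local notation "𝕜" => Residue M

/-- The value of a character at an element of the local group algebra. -/
noncomputable def chiVal (χ : IrrCharacter G) (a : LA M G) : ℂ :=
  ∑ g : G, (a.coeff g : ℂ) * (χ : G → ℂ) g

theorem chiVal_sub (χ : IrrCharacter G) (a b : LA M G) :
    chiVal χ (a - b) = chiVal χ a - chiVal χ b := by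
  simp [chiVal, sub_mul, sum_sub_distrib]

/-- Characters take natural values at idempotents. -/
theorem exists_nat_chiVal (χ : IrrCharacter G) {a : LA M G} (ha : a * a = a) :
    ∃ r : ℕ, chiVal χ a = r := by
  obtain ⟨n, σ, hσ⟩ := isCharacter_irr χ
  set E : Module.End ℂ (Fin n → ℂ) := ∑ g : G, (a.coeff g : ℂ) • σ g
  have hEE : E * E = E := by
    calc E * E = ∑ x : G, ∑ h : G, ((a.coeff x : ℂ) * (a.coeff h : ℂ)) • σ (x * h) := by
          simp only [E, sum_mul]
          refine sum_congr rfl fun x _ => ?_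
          rw [mul_sum]
          refine sum_congr rfl fun h _ => ?_
          rw [smul_mul_smul_comm, map_mul]
      _ = ∑ x : G, ∑ g : G, ((a.coeff x : ℂ) * (a.coeff (x⁻¹ * g) : ℂ)) • σ g := by
          refine sum_congr rfl fun x _ => Fintype.sum_equiv (Equiv.mulLeft x) _ _ fun h => ?_
          rw [Equiv.coe_mulLeft, inv_mul_cancel_left]
      _ = E := by
          rw [sum_comm]
          refine sum_congr rfl fun g _ => ?_
          rw [← sum_smul]
          congr 1
          conv_rhs => rw [← ha, coeff_mul']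
          push_cast
          rfl
  refine ⟨finrank ℂ (LinearMap.range E), ?_⟩
  have hproj : LinearMap.IsProj (LinearMap.range E) E :=
    ⟨fun c => LinearMap.mem_range_self _ c, by
      rintro _ ⟨c, rfl⟩
      rw [← Module.End.mul_apply, hEE]⟩
  rw [← hproj.trace]
  simp only [E, chiVal, map_sum, map_smul, smul_eq_mul, ← hσ, Representation.character]

/-- The rank of right multiplication by a reduced idempotent. -/
theorem finrank_mulRight_eq_sum [Fintype (IrrCharacter G)] {a : LA M G} (ha : a * a = a) :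
    (finrank 𝕜 (LinearMap.range (LinearMap.mulRight 𝕜 (redA a))) : ℂ) =
      ∑ χ : IrrCharacter G, (χ : G → ℂ) 1 * chiVal χ a := by
  rw [finrank_mulRight ha]
  simp only [chiVal, mul_sum]
  rw [sum_comm, sum_eq_single (1 : G)]
  · have h := column_orth (1 : G) (1 : G)
    rw [if_pos (IsConj.refl _), show Subgroup.centralizer ({(1 : G)} : Set G) = ⊤ from
      eq_top_iff.2 fun z _ => Subgroup.mem_centralizer_singleton_iff.2 (by simp),
      Subgroup.card_top] at h
    rw [← h, sum_mul]
    refine sum_congr rfl fun χ _ => ?_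
    rw [(irr_one χ).1, Complex.conj_natCast]
    ring
  · intro g _ hg
    have h := column_orth g (1 : G)
    rw [if_neg fun hc => hg (isConj_one_left.1 hc)] at h
    rw [← mul_zero (a.coeff g : ℂ), ← h, mul_sum]
    refine sum_congr rfl fun χ _ => ?_
    rw [(irr_one χ).1, Complex.conj_natCast]
    ring
  · simp

/-- The rank of the two-sided multiplication by a reduced idempotent. -/
theorem finrank_mulBoth_eq_sum [Fintype (IrrCharacter G)] {a : LA M G} (ha : a * a = a) :
    (finrank 𝕜 (LinearMap.range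
      ((LinearMap.mulLeft 𝕜 (redA a)).comp (LinearMap.mulRight 𝕜 (redA a)))) : ℂ) =
      ∑ χ : IrrCharacter G, chiVal χ a ^ 2 := by
  let Q1 : Matrix G G (localRing M) := Matrix.of fun g h => a.coeff (g * h⁻¹)
  let Q2 : Matrix G G (localRing M) := Matrix.of fun g h => a.coeff (h⁻¹ * g)
  have hQ1 : Q1 * Q1 = Q1 := by
    ext g h
    rw [Matrix.mul_apply]
    simp only [Q1, Matrix.of_apply]
    refine congrArg Subtype.val (Eq.trans ?_ (congrArg (fun z => z.coeff (g * h⁻¹)) ha))
    rw [coeff_mul']
    exact Fintype.sum_equiv ((Equiv.inv G).trans (Equiv.mulLeft g)) _ _ fun z => by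
      simp [mul_assoc]
  have hQ2 : Q2 * Q2 = Q2 := by
    ext g h
    rw [Matrix.mul_apply]
    simp only [Q2, Matrix.of_apply]
    refine congrArg Subtype.val (Eq.trans ?_ (congrArg (fun z => z.coeff (h⁻¹ * g)) ha))
    rw [coeff_mul']
    exact Fintype.sum_equiv (Equiv.mulLeft h⁻¹) _ _ fun z => by simp [mul_assoc, mul_comm]
  have hentry : ∀ g h, (Q1 * Q2) g h = ∑ x : G, a.coeff x * a.coeff (h⁻¹ * x⁻¹ * g) := by
    intro g h
    rw [Matrix.mul_apply]
    exact Fintype.sum_equiv ((Equiv.inv G).trans (Equiv.mulLeft g)) _ _ fun z => by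
      simp [Q1, Q2, mul_assoc]
  have hcomm : Q1 * Q2 = Q2 * Q1 := by
    refine Matrix.ext fun g h => ?_
    rw [hentry, Matrix.mul_apply]
    exact Fintype.sum_equiv (Equiv.mulRight h) _ _ fun x => by
      simp [Q1, Q2, mul_assoc, mul_comm]
  have hQ : Q1 * Q2 * (Q1 * Q2) = Q1 * Q2 := by
    calc Q1 * Q2 * (Q1 * Q2) = Q1 * (Q2 * Q1) * Q2 := by simp only [Matrix.mul_assoc]
      _ = (Q1 * Q1) * (Q2 * Q2) := by rw [← hcomm]; simp only [Matrix.mul_assoc]
      _ = _ := by rw [hQ1, hQ2]
  have hL : (coordEquiv M G).toLinearMap.comp (LinearMap.mulLeft 𝕜 (redA a)) =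
      (Q1.map (res M)).mulVecLin.comp (coordEquiv M G).toLinearMap := by
    refine LinearMap.ext fun y => funext fun g => ?_
    simp only [LinearMap.comp_apply, LinearEquiv.coe_coe, LinearMap.mulLeft_apply, coordEquiv_apply,
      Matrix.mulVecLin_apply, Matrix.mulVec, dotProduct, Matrix.map_apply, Q1, Matrix.of_apply,
      BrauerPairs.coeff_mul, coeff_redA]
    exact Fintype.sum_equiv ((Equiv.inv G).trans (Equiv.mulRight g)) _ _ fun z => by simp
  have hR : (coordEquiv M G).toLinearMap.comp (LinearMap.mulRight 𝕜 (redA a)) =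
      (Q2.map (res M)).mulVecLin.comp (coordEquiv M G).toLinearMap := by
    refine LinearMap.ext fun y => funext fun g => ?_
    simp only [LinearMap.comp_apply, LinearEquiv.coe_coe, LinearMap.mulRight_apply, coordEquiv_apply,
      Matrix.mulVecLin_apply, Matrix.mulVec, dotProduct, Matrix.map_apply, Q2, Matrix.of_apply,
      BrauerPairs.coeff_mul, coeff_redA]
    exact sum_congr rfl fun z _ => mul_comm _ _
  have hconj : (coordEquiv M G).toLinearMap.comp
      ((LinearMap.mulLeft 𝕜 (redA a)).comp (LinearMap.mulRight 𝕜 (redA a))) =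
      ((Q1 * Q2).map (res M)).mulVecLin.comp (coordEquiv M G).toLinearMap := by
    rw [← LinearMap.comp_assoc, hL, LinearMap.comp_assoc, hR, ← LinearMap.comp_assoc,
      ← Matrix.mulVecLin_mul, ← Matrix.map_mul]
  have h := rank_res_eq hQ
  rw [← LinearMap.range_comp_of_range_eq_top ((Q1 * Q2).map (res M)).mulVecLin (coordEquiv M G).range,
    ← hconj, LinearMap.range_comp, LinearEquiv.finrank_map_eq] at h
  rw [h]
  simp only [hentry]
  push_cast
  rw [sum_comm]
  have hconjsum : ∀ z : G, ∑ g : G, (a.coeff (g * z * g⁻¹) : ℂ) =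
      ∑ χ : IrrCharacter G, chiVal χ a * conj ((χ : G → ℂ) z) := by
    intro z
    calc ∑ g : G, (a.coeff (g * z * g⁻¹) : ℂ)
        = ∑ u : G, (a.coeff u : ℂ) *
            ((univ.filter fun g : G => g * z * g⁻¹ = u).card : ℂ) := by
          rw [← sum_fiberwise univ (fun g : G => g * z * g⁻¹) fun g => (a.coeff (g * z * g⁻¹) : ℂ)]
          refine sum_congr rfl fun u _ => ?_
          rw [sum_congr rfl fun g hg => by rw [(mem_filter.1 hg).2], sum_const, nsmul_eq_mul,
            mul_comm]
      _ = ∑ u : G, (a.coeff u : ℂ) *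
            ∑ χ : IrrCharacter G, (χ : G → ℂ) u * conj ((χ : G → ℂ) z) := by
          refine sum_congr rfl fun u _ => congrArg _ ?_
          rw [column_orth]
          by_cases hc : IsConj u z
          · rw [if_pos hc]
            obtain ⟨w, hw⟩ := isConj_iff.1 hc
            rw [Nat.card_eq_fintype_card, Fintype.card_subtype]
            congr 1
            refine card_bij (fun g _ => g * w) (fun g hg => ?_)
              (fun g _ g' _ h => mul_right_cancel h) fun c hc' => ⟨c * w⁻¹, ?_, by simp⟩
            · refine mem_filter.2 ⟨mem_univ _, Subgroup.mem_centralizer_singleton_iff.2 ?_⟩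
              have := (mem_filter.1 hg).2
              rw [← hw, show g * (w * u * w⁻¹) * g⁻¹ = g * w * u * (g * w)⁻¹ by group,
                mul_inv_eq_iff_eq_mul] at this
              exact this
            · refine mem_filter.2 ⟨mem_univ _, ?_⟩
              rw [← hw, show c * w⁻¹ * (w * u * w⁻¹) * (c * w⁻¹)⁻¹ = c * u * c⁻¹ by group,
                mul_inv_eq_iff_eq_mul]
              exact Subgroup.mem_centralizer_singleton_iff.1 (mem_filter.1 hc').2
          · rw [if_neg hc, filter_eq_empty_iff.2 fun g _ hg => hc (isConj_iff.2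
              ⟨g⁻¹, by rw [← hg]; group⟩), card_empty, Nat.cast_zero]
      _ = _ := by
          simp only [mul_sum, chiVal, sum_mul]
          rw [sum_comm]
          exact sum_congr rfl fun χ _ => sum_congr rfl fun u _ => by ring
  calc ∑ x : G, ∑ g : G, (a.coeff x : ℂ) * (a.coeff (g⁻¹ * x⁻¹ * g) : ℂ)
      = ∑ x : G, (a.coeff x : ℂ) *
          ∑ χ : IrrCharacter G, chiVal χ a * (χ : G → ℂ) x := by
        refine sum_congr rfl fun x _ => ?_
        rw [← mul_sum]
        congr 1
        rw [sum_congr rfl fun χ _ => show chiVal χ a * (χ : G → ℂ) x =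
          chiVal χ a * conj ((χ : G → ℂ) x⁻¹) by rw [conj_irr, inv_inv], ← hconjsum]
        exact Fintype.sum_equiv (Equiv.inv G) _ _ fun g => by simp
    _ = _ := by
        simp only [mul_sum]
        rw [sum_comm]
        refine sum_congr rfl fun χ _ => ?_
        rw [sq]
        nth_rewrite 3 [chiVal]
        rw [mul_sum]
        exact sum_congr rfl fun x _ => by ring

/-- A character of the block. -/
theorem blockRank_eq_one_of_card_two (hM : IsPModular p M) {B : Set (IrrCharacter G)}
    (hB : IsPBlock M B) (hk : Nat.card B = 2) : blockRank p B = 1 ∧ blockDefect p B ≠ 0 := by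
  letI := irrFintype (G := G)
  haveI : Fintype B := Fintype.ofFinite B
  have hd : blockDefect p B ≠ 0 := fun h => by
    have := (card_and_rank_of_defect_zero hM hB h).1
    omega
  have hle := blockRank_le_card (p := p) hM hB
  have hne : blockRank p B ≠ 2 := fun h => hd (defect_zero_of_rank_eq hM hB (by rw [hk, h]))
  obtain ⟨χ, hχ⟩ := exists_mem_block hB
  have hpos : blockRank p B ≠ 0 := by
    intro h
    rw [blockRank, Submodule.finrank_eq_zero, Submodule.span_eq_bot] at h
    have h1 := congrFun (h _ ⟨χ, hχ, rfl⟩) 1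
    simp only [BlockB.pRegularPart_eq] at h1
    rw [regPart_of_not_dvd (by
      rw [orderOf_one]; exact (Fact.out : p.Prime).not_dvd_one), Pi.zero_apply] at h1
    exact irr_one_ne_zero χ h1
  exact ⟨by omega, hd⟩

/-- An element of the corner acts on a rank one image by a scalar. -/
theorem exists_scalar_kill {W : Type u} [AddCommGroup W] [Module 𝕜 W]
    [Module (MonoidAlgebra 𝕜 G) W] [IsScalarTower 𝕜 (MonoidAlgebra 𝕜 G) W]
    [FiniteDimensional 𝕜 W] {i r : MonoidAlgebra 𝕜 G} (hii : i * i = i)
    (hiW : finrank 𝕜 (LinearMap.range (act 𝕜 W i)) = 1) (hir : i * r = r) (hri : r * i = r) :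
    ∃ c : 𝕜, ∀ v : W, (r - c • i) • v = 0 := by
  obtain ⟨⟨y₀, hy⟩, -, hspan⟩ := finrank_eq_one_iff'.1 hiW
  obtain ⟨c, hc⟩ := hspan ⟨r • y₀, r • y₀, by show i • r • y₀ = r • y₀; rw [← mul_smul, hir]⟩
  have hc' : c • y₀ = r • y₀ := congrArg Subtype.val hc
  refine ⟨c, fun v => ?_⟩
  obtain ⟨d, hd⟩ := hspan ⟨i • v, v, rfl⟩
  have hd' : d • y₀ = i • v := congrArg Subtype.val hd
  rw [sub_smul, smul_assoc, ← hri, mul_smul, ← hd', smul_comm r d y₀, ← hc', smul_comm d c y₀,
    sub_self]

/-- The centre of the corner of a generating idempotent is at most as large as the block. -/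
theorem finrank_centralSub_le_card (hM : IsPModular p M) {B : Set (IrrCharacter G)}
    (hB : IsPBlock M B) {i : MonoidAlgebra 𝕜 G} (hii : i * i = i)
    (hif : idem M B * i = i) {n : ℕ} (a b : Fin n → MonoidAlgebra 𝕜 G)
    (hgen : ∑ j, a j * i * b j = idem M B) :
    finrank 𝕜 (centralSub i) ≤ Nat.card B := by
  letI := irrFintype (G := G)
  haveI : Fintype B := Fintype.ofFinite B
  haveI : Fintype (ConjClasses G) := Fintype.ofFinite _
  haveI : FiniteDimensional 𝕜 (MonoidAlgebra 𝕜 G) :=
    Module.Finite.of_basis (MonoidAlgebra.basis G 𝕜)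
  set f := idem M B
  have hb := isBlk_idem hM hB
  have hfc : ∀ y : MonoidAlgebra 𝕜 G, Commute f y := fun y =>
    (alg_commute le_rfl (suppIn_top y) hb.mem.2).symm
  let ind : ConjClasses G → G → ℂ := fun K g => if ConjClasses.mk g = K then 1 else 0
  have hind : ∀ K, IsIntClass M (ind K) := fun K => ⟨fun g t => by
      simp only [ind]
      rw [show ConjClasses.mk (t * g * t⁻¹) = ConjClasses.mk g from
        ConjClasses.mk_eq_mk_iff_isConj.2 (isConj_iff.2 ⟨t⁻¹, by group⟩)],
    fun g => by simp only [ind]; split_ifs <;> simp [memLocalRing_one, memLocalRing_zero]⟩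
  have hcl : ∀ K, IsIntClass M (conv (blockCoeff B) (ind K)) := fun K =>
    isIntClass_conv (isIntClass_blockCoeff hB) (hind K)
  let v : ConjClasses G → G → localRing M := fun K g => ⟨_, (hcl K).2 g⟩
  let V : Submodule 𝕜 (MonoidAlgebra 𝕜 G) :=
    Submodule.span 𝕜 (Set.range fun K => redFun M (conv (blockCoeff B) (ind K)))
  have hV : finrank 𝕜 V ≤ Nat.card B := by
    have h1 : finrank 𝕜 V = finrank 𝕜 (Submodule.span 𝕜 (Set.range fun K x => res M (v K x))) := by
      rw [← LinearEquiv.finrank_map_eq (coordEquiv M G) V, Submodule.map_span, ← Set.range_comp]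
      have hfun : (⇑((coordEquiv M G : MonoidAlgebra 𝕜 G →ₗ[𝕜] G → 𝕜)) ∘
          fun K => redFun M (conv (blockCoeff B) (ind K))) = fun K x => res M (v K x) := by
        refine funext fun K => funext fun g => ?_
        simp only [Function.comp_apply, LinearEquiv.coe_coe, coordEquiv_apply, coeff_redFun, v]
        exact red_eq _
      rw [hfun]
    rw [h1]
    refine (finrank_red_le v).trans ?_
    let L : (B → ℂ) →ₗ[ℂ] (G → ℂ) :=
      { toFun := fun c => centFun fun χ => if h : χ ∈ B then c ⟨χ, h⟩ else 0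
        map_add' := fun c c' => funext fun g => by
          simp only [centFun, Pi.add_apply, ← mul_add, ← sum_add_distrib]
          refine congrArg _ (sum_congr rfl fun χ _ => ?_)
          split_ifs <;> ring
        map_smul' := fun r c => funext fun g => by
          simp only [centFun, Pi.smul_apply, smul_eq_mul, RingHom.id_apply, mul_sum]
          refine sum_congr rfl fun χ _ => ?_
          split_ifs <;> ring }
    have hrange : Submodule.span ℂ (Set.range fun K x => (v K x : ℂ)) ≤ LinearMap.range L := by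
      rw [Submodule.span_le]
      rintro _ ⟨K, rfl⟩
      refine ⟨fun χ => omega (χ.1 : G → ℂ) (ind K), ?_⟩
      show centFun _ = fun x => conv (blockCoeff B) (ind K) x
      conv_rhs => rw [blockCoeff_eq_centFun, eq_centFun (hind K).1, conv_centFun]
      congr 1
      funext χ
      by_cases h : χ ∈ B
      · rw [dif_pos h, if_pos h, one_mul]
      · rw [dif_neg h, if_neg h, zero_mul]
    refine (Submodule.finrank_mono hrange).trans ((LinearMap.finrank_range_le L).trans ?_)
    rw [Module.finrank_pi, Nat.card_eq_fintype_card]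
  let ψ : MonoidAlgebra 𝕜 G →ₗ[𝕜] MonoidAlgebra 𝕜 G :=
    { toFun := fun w => ∑ j, a j * w * b j
      map_add' := fun x y => by simp only [mul_add, add_mul, sum_add_distrib]
      map_smul' := fun c x => by
        simp only [mul_smul_comm, smul_mul_assoc, smul_sum, RingHom.id_apply] }
  have hR : ∀ y, i * y * i ∈ cornerSub i := fun y => (mem_cornerSub hii).2
      ⟨by rw [← mul_assoc, ← mul_assoc, hii], by rw [mul_assoc, hii]⟩
  have hspec : ∀ w ∈ centralSub i, ψ w ∈ V ∧ i * ψ w * i = w := by
    rintro w ⟨hw, hwc⟩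
    obtain ⟨w1, w2⟩ := (mem_cornerSub hii).1 hw
    have hfw : f * w = w := by
      conv_lhs => rw [← w1, ← mul_assoc, hif]
      exact w1
    have hfz : f * ψ w = ψ w := by
      show f * ∑ j, a j * w * b j = ∑ j, a j * w * b j
      rw [mul_sum]
      refine sum_congr rfl fun j _ => ?_
      rw [← mul_assoc, ← mul_assoc, (hfc (a j)).eq, mul_assoc (a j) f w, hfw]
    have hcen : ∀ y, y * ψ w = ψ w * y := by
      intro y
      have hkey : f * (y * ψ w) = ψ w * y * f := by
        show f * (y * ∑ j, a j * w * b j) = (∑ j, a j * w * b j) * y * f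
        rw [← hgen]
        simp only [mul_sum, sum_mul]
        refine sum_congr rfl fun l _ => sum_congr rfl fun j _ => ?_
        have h := hwc _ (hR (b j * y * a l))
        have e1 : i * (b j * y * a l) * i * w = i * (b j * y * a l) * w := by
          rw [mul_assoc (i * (b j * y * a l)) i w, w1]
        have e2 : w * (i * (b j * y * a l) * i) = w * (b j * y * a l) * i := by
          rw [← mul_assoc, ← mul_assoc, w2]
        calc a j * i * b j * (y * (a l * w * b l)) = a j * (i * (b j * y * a l) * w) * b l := by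
              simp only [mul_assoc]
          _ = a j * (w * (b j * y * a l) * i) * b l := by rw [← e1, ← h, e2]
          _ = a j * w * b j * y * (a l * i * b l) := by simp only [mul_assoc]
      calc y * ψ w = f * (y * ψ w) := by
            conv_lhs => rw [← hfz, ← mul_assoc, ← (hfc y).eq, mul_assoc]
        _ = ψ w * y * f := hkey
        _ = ψ w * y := by rw [← (hfc _).eq, ← mul_assoc, hfz]
    refine ⟨?_, ?_⟩
    · set z := ψ w
      have hconst : ∀ g t : G, z.coeff (t * g * t⁻¹) = z.coeff g := fun g t =>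
        (commute_single_iff t z).1 (hcen _) g
      have hzsum : z = ∑ K : ConjClasses G, z.coeff K.out • redFun M (ind K) := by
        refine coeff_ext fun g => ?_
        rw [MonoidAlgebra.coeff_sum, Finsupp.finsetSum_apply, sum_eq_single (ConjClasses.mk g)]
        · rw [MonoidAlgebra.coeff_smul, Finsupp.smul_apply, coeff_redFun, smul_eq_mul]
          simp only [ind, if_true, red_one, mul_one]
          obtain ⟨t, ht⟩ := isConj_iff.1 (ConjClasses.mk_eq_mk_iff_isConj.1
            (show ConjClasses.mk (ConjClasses.mk g).out = ConjClasses.mk g from Quotient.out_eq _))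
          rw [← ht, hconst]
          rw [ht]
        · intro K _ hK
          rw [MonoidAlgebra.coeff_smul, Finsupp.smul_apply, coeff_redFun]
          simp only [ind]
          rw [if_neg (Ne.symm hK), red_zero, smul_zero]
        · simp
      rw [← hfz, hzsum, mul_sum]
      refine Submodule.sum_mem _ fun K _ => ?_
      rw [mul_smul_comm]
      refine Submodule.smul_mem _ _ (Submodule.subset_span ⟨K, ?_⟩)
      exact redFun_conv (isIntClass_blockCoeff hB).2 (hind K).2
    · show i * (∑ j, a j * w * b j) * i = w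
      rw [mul_sum, sum_mul]
      have e : ∀ j, i * (a j * w * b j) * i = w * (i * a j * (i * (b j * i))) := fun j => by
        have h := hwc _ (hR (a j))
        calc i * (a j * w * b j) * i = i * (a j * (i * w)) * b j * i := by
              rw [w1]; simp only [mul_assoc]
          _ = i * a j * i * w * (b j * i) := by simp only [mul_assoc]
          _ = w * (i * a j * i) * (b j * i) := by rw [h]
          _ = _ := by simp only [mul_assoc]
      rw [sum_congr rfl fun j _ => e j, ← mul_sum]
      rw [show ∑ j, i * a j * (i * (b j * i)) = i * (∑ j, a j * i * b j) * i by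
        rw [mul_sum, sum_mul]; exact sum_congr rfl fun j _ => by simp only [mul_assoc],
        hgen, mul_assoc, hif, hii, w2]
  have hle : finrank 𝕜 (centralSub i) ≤ finrank 𝕜 V := by
    refine LinearMap.finrank_le_finrank_of_injective
      (f := (ψ.domRestrict (centralSub i)).codRestrict V fun w => (hspec _ w.2).1) ?_
    intro x y hxy
    have h1 : ψ (x : MonoidAlgebra 𝕜 G) = ψ (y : MonoidAlgebra 𝕜 G) := congrArg Subtype.val hxy
    exact Subtype.ext (by rw [← (hspec _ x.2).2, h1, (hspec _ y.2).2])
  exact hle.trans hV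

set_option maxHeartbeats 1000000 in
/-- **A block with two characters has defect one at the prime two.** -/
theorem defect_of_card_two (hM : IsPModular p M) {B : Set (IrrCharacter G)}
    (hB : IsPBlock M B) (hk : Nat.card B = 2) : p = 2 ∧ blockDefect p B = 1 := by
  letI := irrFintype (G := G)
  have hp := (Fact.out : p.Prime)
  obtain ⟨hrank, hd⟩ := blockRank_eq_one_of_card_two hM hB hk
  set f := idem M B with hf
  have hff : f * f = f := (isBlk_idem hM hB).idem
  have hfc : ∀ y, Commute f y := fun y =>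
    (alg_commute le_rfl (suppIn_top y) (isBlk_idem hM hB).mem.2).symm
  have hfX : ∀ x : leftIdeal f, f • x = x := fun x => Subtype.ext (by
    show f * (x : MonoidAlgebra 𝕜 G) = x
    rw [(hfc _).eq]
    exact (mem_leftIdeal hff).1 x.2)
  haveI : Nontrivial (leftIdeal f) := ⟨⟨⟨f, Submodule.mem_span_singleton_self f⟩, 0,
    fun h => idem_ne_zero hB (congrArg Subtype.val h)⟩⟩
  obtain ⟨W, hWs⟩ := exists_simple_submodule (k := 𝕜) (G := G) (S := leftIdeal f)
  haveI : FiniteDimensional 𝕜 W := inferInstanceAs (FiniteDimensional 𝕜 (W.restrictScalars 𝕜))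
  have hW : ∀ x : W, f • x = x := fun x => Subtype.ext (hfX (x : leftIdeal f))
  have hall : ∀ (U : Type u) [AddCommGroup U] [Module 𝕜 U] [Module (MonoidAlgebra 𝕜 G) U]
      [IsScalarTower 𝕜 (MonoidAlgebra 𝕜 G) U] [FiniteDimensional 𝕜 U]
      [IsSimpleModule (MonoidAlgebra 𝕜 G) U],
      (∀ x : U, f • x = x) → Nonempty (U ≃ₗ[MonoidAlgebra 𝕜 G] W) :=
    fun U _ _ _ _ _ _ hU => iso_of_blockRank_one hM hB hrank U W hU hW
  obtain ⟨i, hii, hfi, -, hiW⟩ := exists_fixed_rankOne (M := M) (1 : _ ≃ₐ[𝕜] _) (o := 1)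
    (by simp) (one_pow 1) hff rfl hfc W hW hall
  have hif : i * f = i := by rw [← (hfc i).eq, hfi]
  -- the idempotent generates the block
  obtain ⟨n, a, b, hgen⟩ : ∃ (n : ℕ) (a b : Fin n → MonoidAlgebra 𝕜 G),
      ∑ j, a j * i * b j = f := by
    set J : Submodule (MonoidAlgebra 𝕜 G) (MonoidAlgebra 𝕜 G) :=
      Submodule.span _ (Set.range fun b => i * b)
    have hfJ : f ∈ J := by
      by_contra hn
      set J' := J.comap (leftIdeal f).subtype
      haveI : Nontrivial (leftIdeal f ⧸ J') := Submodule.Quotient.nontrivial_iff.2 fun ht => hn (by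
        have h1 : (⟨f, Submodule.mem_span_singleton_self f⟩ : leftIdeal f) ∈ J' := by
          rw [ht]; trivial
        exact h1)
      obtain ⟨U, hU⟩ := exists_simple_submodule (k := 𝕜) (G := G) (S := leftIdeal f ⧸ J')
      haveI : FiniteDimensional 𝕜 U := inferInstanceAs (FiniteDimensional 𝕜 (U.restrictScalars 𝕜))
      have hkill : ∀ z : leftIdeal f ⧸ J', i • z = 0 := fun z => by
        obtain ⟨y, rfl⟩ := J'.mkQ_surjective z
        rw [← map_smul, Submodule.mkQ_apply, Submodule.Quotient.mk_eq_zero]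
        exact Submodule.subset_span ⟨(y : MonoidAlgebra 𝕜 G), rfl⟩
      have hUf : ∀ z : U, f • z = z := fun z => Subtype.ext (by
        obtain ⟨y, hy⟩ := J'.mkQ_surjective (z : leftIdeal f ⧸ J')
        show f • (z : leftIdeal f ⧸ J') = z
        rw [← hy, ← map_smul, hfX])
      obtain ⟨φ⟩ := hall U hUf
      have : act 𝕜 W i = 0 := LinearMap.ext fun v => by
        obtain ⟨u, rfl⟩ := φ.surjective v
        rw [act_apply, ← map_smul, show i • u = 0 from Subtype.ext (hkill u), map_zero,
          LinearMap.zero_apply]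
      rw [this, LinearMap.range_zero, finrank_bot] at hiW
      exact zero_ne_one hiW
    obtain ⟨n, a, g, hag⟩ := (Submodule.mem_span_set' ).1 hfJ
    choose b hb using fun j => (g j).2
    exact ⟨n, a, b, by simp only [smul_eq_mul, ← hb, ← mul_assoc] at hag; exact hag⟩
  -- the corner has dimension at most two
  set R := cornerSub i
  let J : Submodule 𝕜 (MonoidAlgebra 𝕜 G) := R ⊓ LinearMap.ker (act 𝕜 W).toLinearMap
  have hJker : ∀ r ∈ J, ∀ v : W, r • v = 0 := fun r hr v =>
    LinearMap.congr_fun (LinearMap.mem_ker.1 (Submodule.mem_inf.1 hr).2) v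
  have hJnil : J ^ (finrank 𝕜 (leftIdeal f) + 1) = ⊥ := by
    rw [eq_bot_iff]
    intro r hr
    have hkill := pow_kill (k := 𝕜) (f := f) (J := J) (fun U _ _ _ _ _ _ hU r hr x => by
      obtain ⟨e⟩ := hall U hU
      apply e.injective
      rw [map_smul, hJker r hr, map_zero]) _ (leftIdeal f) rfl hfX
    rw [Submodule.mem_bot]
    rw [pow_succ] at hr
    induction hr using Submodule.mul_induction_on' with
    | mem_mul_mem u hu v hv =>
      have h1 : u * f = 0 := congrArg Subtype.val (hkill u hu
        ⟨f, Submodule.mem_span_singleton_self f⟩)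
      obtain ⟨v1, -⟩ := (mem_cornerSub hii).1 (Submodule.mem_inf.1 hv).1
      rw [← v1, ← hfi, mul_assoc f, ← mul_assoc u, h1, zero_mul]
    | add u _ v _ h h' => rw [h, h', add_zero]
  have hcod : ∀ r ∈ R, ∃ c : 𝕜, r - c • i ∈ J := by
    intro r hr
    obtain ⟨c, hc⟩ := exists_scalar_kill (W := W) hii hiW (r := r)
      ((mem_cornerSub hii).1 hr).1 ((mem_cornerSub hii).1 hr).2
    exact ⟨c, Submodule.mem_inf.2 ⟨sub_mem hr (Submodule.smul_mem _ c
      ((mem_cornerSub hii).2 ⟨hii, hii⟩)), LinearMap.mem_ker.2 (LinearMap.ext hc)⟩⟩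
  have hJmul : J * J ≤ J := by
    rw [Submodule.mul_le]
    intro u hu v hv
    obtain ⟨u1, -⟩ := (mem_cornerSub hii).1 (Submodule.mem_inf.1 hu).1
    obtain ⟨-, v2⟩ := (mem_cornerSub hii).1 (Submodule.mem_inf.1 hv).1
    refine Submodule.mem_inf.2 ⟨(mem_cornerSub hii).2 ⟨by rw [← mul_assoc, u1],
      by rw [mul_assoc, v2]⟩, LinearMap.mem_ker.2 (LinearMap.ext fun x => ?_)⟩
    show (u * v) • x = 0
    rw [mul_smul, hJker v hv, smul_zero]
  have hD2 : finrank 𝕜 R ≤ 2 := finrank_corner_le_two hii J inf_le_left hcod hJmul hJnil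
    (hk ▸ finrank_centralSub_le_card hM hB hii hfi a b hgen)
  -- dimensions
  set D := finrank 𝕜 R with hD
  set w := finrank 𝕜 W with hwdef
  obtain ⟨ai, hai, hai', -⟩ := exists_lift (M := M) (⊥ : Subgroup G) hii (fixBy_of_coeff
    fun t ht g => by rw [Subgroup.mem_bot.1 ht]; simp)
  have hlr : finrank 𝕜 (LinearMap.range (LinearMap.mulLeft 𝕜 i)) = finrank 𝕜 (leftIdeal i) := by
    rw [finrank_leftIdeal, ← hai']
    exact_mod_cast (finrank_mulLeft hai).trans (finrank_mulRight hai).symm
  have hiL := finrank_act_mul (k := 𝕜) (f := f) hii (W := W) hall _ (leftIdeal f) rfl hfX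
  have hiR := finrank_act_mul (k := 𝕜) (f := f) hii (W := W) hall _ (leftIdeal i) rfl
    fun x => Subtype.ext (by
      show f * (x : MonoidAlgebra 𝕜 G) = x
      rw [(hfc _).eq, ← (mem_leftIdeal hii).1 x.2, mul_assoc, hif])
  rw [hiW, mul_one, range_act_leftIdeal] at hiL hiR
  rw [show (LinearMap.mulLeft 𝕜 i).comp (LinearMap.mulRight 𝕜 f) = LinearMap.mulLeft 𝕜 i from
    LinearMap.ext fun y => by
      show i * (y * f) = i * y
      rw [← (hfc y).eq, ← mul_assoc, hif], hlr] at hiL
  -- the values at the idempotent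
  choose r hr using fun χ : IrrCharacter G => exists_nat_chiVal χ hai
  have hsum1 : ∑ χ : IrrCharacter G, (χ : G → ℂ) 1 * (r χ : ℂ) = ((D * w : ℕ) : ℂ) := by
    rw [hD, show finrank 𝕜 R * w = _ from hiR, finrank_leftIdeal, ← hai',
      finrank_mulRight_eq_sum hai]
    exact sum_congr rfl fun χ _ => by rw [hr]
  have hsum2 : ∑ χ : IrrCharacter G, (r χ : ℂ) ^ 2 = (D : ℂ) := by
    rw [hD, show R = LinearMap.range
        ((LinearMap.mulLeft 𝕜 i).comp (LinearMap.mulRight 𝕜 i)) from rfl, ← hai',
      finrank_mulBoth_eq_sum hai]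
    exact sum_congr rfl fun χ _ => by rw [hr]
  -- they vanish outside the block
  set F := liftIdem hB
  have hcom : Commute ai F := by
    rw [← MonoidAlgebra.sum_coeff_single ai]
    refine Commute.sum_left _ _ _ fun g _ => ?_
    rw [show (MonoidAlgebra.single g (ai.coeff g) : LA M G) =
      ai.coeff g • MonoidAlgebra.single g (1 : localRing M) by rw [MonoidAlgebra.smul_single', mul_one]]
    exact (commute_liftIdem hB g).smul_left _
  have hout : ∀ χ : IrrCharacter G, χ ∉ B → r χ = 0 := by
    set b' := ai - ai * F with hb'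
    have hFF : ai * F * (ai * F) = ai * F := by
      rw [mul_assoc, ← mul_assoc F, ← hcom.eq, mul_assoc ai F F, liftIdem_idem, ← mul_assoc, hai]
    have hb'' : b' * b' = b' := by
      rw [hb', sub_mul, mul_sub, mul_sub, hai, ← mul_assoc, hai, hFF,
        show ai * F * ai = ai * F by rw [mul_assoc, ← hcom.eq, ← mul_assoc, hai]]
      abel
    choose s hs using fun χ : IrrCharacter G => exists_nat_chiVal χ hb''
    have h0 := finrank_mulRight_eq_sum hb''
    rw [show redA b' = 0 by rw [hb', map_sub, map_mul, hai', redA_liftIdem, hif, sub_self],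
      LinearMap.mulRight_zero_eq_zero, LinearMap.range_zero, finrank_bot] at h0
    simp only [(irr_one _).1, hs] at h0
    norm_cast at h0
    intro χ hχ
    have hz := (sum_eq_zero_iff).1 h0.symm χ (mem_univ χ)
    have hs0 : s χ = 0 := (Nat.mul_eq_zero.1 hz).resolve_left (irr_one χ).2.ne'
    have hvan : chiVal χ (ai * F) = 0 := by
      rw [chiVal]
      simp only [coeff_mul']
      push_cast
      simp only [sum_mul, F, coeff_liftIdem]
      rw [sum_comm]
      refine sum_eq_zero fun x _ => ?_
      have h := blockPart_eq_conv B (isClassFunction_irr χ) x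
      rw [blockPart_irr, if_neg hχ, Pi.zero_apply] at h
      rw [← mul_zero (ai.coeff x : ℂ), h, mul_sum]
      refine Fintype.sum_equiv (Equiv.mulLeft x⁻¹) _ _ fun g => ?_
      rw [Equiv.coe_mulLeft, classFun_mul_comm (isClassFunction_irr χ) (x⁻¹ * g) x,
        mul_inv_cancel_left, mul_assoc]
    have h := chiVal_sub χ ai (ai * F)
    rw [hvan, sub_zero, hs χ, hs0, hr, Nat.cast_zero] at h
    exact_mod_cast h.symm
  -- Cauchy-Schwarz
  have hdim : ∑ χ ∈ univ.filter (· ∈ B), ((χ : G → ℂ) 1) ^ 2 = ((D * w * w : ℕ) : ℂ) := by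
    rw [← finrank_block hM hB, hD, show finrank 𝕜 R * w = _ from hiR]
    exact congrArg Nat.cast hiL.symm
  have hrest : ∀ F : IrrCharacter G → ℂ, (∀ χ, χ ∉ B → F χ = 0) →
      ∑ χ, F χ = ∑ χ ∈ univ.filter (· ∈ B), F χ := fun F hF =>
    (sum_subset (subset_univ _) fun χ _ h => hF χ (by simpa using h)).symm
  rw [hrest _ fun χ h => by rw [hout χ h]; simp] at hsum1 hsum2
  simp only [(irr_one _).1] at hsum1 hdim
  have n1 : ∑ χ ∈ univ.filter (· ∈ B), charDegree (χ : G → ℂ) * r χ = D * w := by
    exact_mod_cast hsum1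
  have n2 : ∑ χ ∈ univ.filter (· ∈ B), r χ ^ 2 = D := by exact_mod_cast hsum2
  have n3 : ∑ χ ∈ univ.filter (· ∈ B), charDegree (χ : G → ℂ) ^ 2 = D * w * w := by
    exact_mod_cast hdim
  have heq : ∀ χ ∈ B, charDegree (χ : G → ℂ) = w * r χ := by
    have h0 : ∑ χ ∈ univ.filter (· ∈ B),
        ((charDegree (χ : G → ℂ) : ℤ) - (w : ℤ) * r χ) ^ 2 = 0 := by
      simp only [sub_sq, mul_pow, sum_add_distrib, sum_sub_distrib, ← mul_sum]
      rw [show ∑ χ ∈ univ.filter (· ∈ B), 2 * (charDegree (χ : G → ℂ) : ℤ) * ((w : ℤ) * r χ) =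
        2 * (w : ℤ) * ∑ χ ∈ univ.filter (· ∈ B), ((charDegree (χ : G → ℂ) * r χ : ℕ) : ℤ) by
        rw [mul_sum]; exact sum_congr rfl fun χ _ => by push_cast; ring,
        ← Nat.cast_sum, n1]
      rw [show ∑ χ ∈ univ.filter (· ∈ B), (charDegree (χ : G → ℂ) : ℤ) ^ 2 = ((D * w * w : ℕ) : ℤ) by
          rw [← n3]; push_cast; rfl,
        show ∑ χ ∈ univ.filter (· ∈ B), (r χ : ℤ) ^ 2 = (D : ℤ) by rw [← n2]; push_cast; rfl]
      push_cast
      ring
    intro χ hχ
    have := (sum_eq_zero_iff_of_nonneg fun c _ => sq_nonneg _).1 h0 χ (mem_filter.2 ⟨mem_univ χ, hχ⟩)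
    have := sub_eq_zero.1 ((pow_eq_zero_iff two_ne_zero).1 this)
    exact_mod_cast this
  have hr1 : ∀ χ ∈ B, 1 ≤ r χ := fun χ hχ => Nat.pos_of_ne_zero fun h => (irr_one χ).2.ne' (by
    rw [heq χ hχ, h, mul_zero])
  have hcard : (univ.filter (· ∈ B)).card = 2 := by
    rw [← hk, Nat.card_eq_fintype_card, Fintype.card_subtype]
  have hrsum : ∀ χ ∈ univ.filter (· ∈ B), 1 = r χ ^ 2 := by
    refine (sum_eq_sum_iff_of_le fun χ hχ => Nat.one_le_pow _ _ (hr1 χ (mem_filter.1 hχ).2)).1
      (le_antisymm (sum_le_sum fun χ hχ => Nat.one_le_pow _ _ (hr1 χ (mem_filter.1 hχ).2)) ?_)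
    rw [n2, sum_const, hcard, smul_eq_mul, mul_one]
    exact hD2
  have hDeq : D = 2 := by
    rw [← n2, sum_congr rfl fun χ hχ => (hrsum χ hχ).symm, sum_const, hcard, smul_eq_mul, mul_one]
  have hdeg : ∀ χ ∈ B, charDegree (χ : G → ℂ) = w := fun χ hχ => by
    rw [heq χ hχ, show r χ = 1 from (Nat.pow_eq_one.1 (hrsum χ (mem_filter.2
      ⟨mem_univ χ, hχ⟩)).symm).resolve_right two_ne_zero, mul_one]
  -- the full power of `p` divides the dimension of the projective module
  obtain ⟨χ, hχ, hχ0⟩ := exists_height_zero hM hB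
  set A := (Nat.card G).factorization p with hA
  have hdiv : p ^ A ∣ 2 * w := by
    have h1 := finrank_mulRight hai
    rw [hai', ← finrank_leftIdeal, ← show finrank 𝕜 R * w = _ from hiR, ← hD, hDeq] at h1
    set g' := Nat.card G / p ^ A
    have hG : p ^ A * g' = Nat.card G := Nat.ordProj_mul_ordCompl_eq_self _ _
    have h1' : ((2 * w : ℕ) : ℂ) = (p : ℂ) ^ A * ((g' : ℂ) * (ai.coeff 1 : ℂ)) := by
      rw [h1, ← hG]
      push_cast
      ring
    set z : ℂ := (g' : ℂ) * (ai.coeff 1 : ℂ)
    have hz : MemLocalRing M z := memLocalRing_mul (natCast_mem_localRing _) (ai.coeff 1).2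
    have hpd : ∀ j ≤ A, p ^ j ∣ 2 * w := by
      intro j
      induction j with
      | zero => exact fun _ => by simp
      | succ j ih =>
        intro hj
        obtain ⟨c, hc⟩ := ih (by omega)
        have hcz : (c : ℂ) = (p : ℂ) * ((p : ℂ) ^ (A - j - 1) * z) := by
          refine mul_left_cancel₀ (pow_ne_zero j (Nat.cast_ne_zero.2 hp.ne_zero : (p : ℂ) ≠ 0)) ?_
          rw [← mul_assoc, ← mul_assoc, ← pow_succ, ← pow_add, show j + 1 + (A - j - 1) = A by omega,
            ← h1', hc, ← Nat.cast_pow, ← Nat.cast_mul]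
        have : p ∣ c := by
          rw [← memLocalIdeal_natCast_iff hM, hcz]
          exact memLocalIdeal_mul_right (memLocalIdeal_p hM)
            (memLocalRing_mul (pow_mem (natCast_mem (localRing M) p) _) hz)
        rw [pow_succ, hc]
        exact mul_dvd_mul_left _ this
    exact hpd A le_rfl
  have hw0 : w ≠ 0 := by
    have := (irr_one χ).2
    rw [hdeg χ hχ] at this
    omega
  have hfac := factorization_degree hM hB hχ
  rw [hχ0, add_zero, hdeg χ hχ, ← hA] at hfac
  have h2 := (hp.pow_dvd_iff_le_factorization (by omega)).1 hdiv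
  rw [Nat.factorization_mul two_ne_zero hw0, Finsupp.add_apply, hfac] at h2
  have hdA := blockDefect_le (p := p) B
  rw [← hA] at hdA
  by_cases hp2 : p = 2
  · subst hp2
    rw [Nat.prime_two.factorization_self] at h2
    exact ⟨rfl, by omega⟩
  · rw [Nat.Prime.factorization Nat.prime_two, Finsupp.single_apply, if_neg (Ne.symm hp2)] at h2
    omega

end CfsgLib.TwoChars
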